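import Mathlib
import Cfsg.Agent.Lib.Frob.Thompson
import Cfsg.Agent.Lib.Frob.Complement
import Cfsg.Agent.Lib.Block.PPart
import Cfsg.Agent.Lib.SylTools.Basic
import Cfsg.Agent.Lib.Transfer.NormalComplement

/-! Groups with operators in which the stabilisers of non-central elements are maximal. -/

set_option autoImplicit false

namespace CfsgLib.MaxCent

open Subgroup Cfsg

/-- `Γ` acts on `N`, inducing all inner automorphisms, with maximal stabilisers -/
structure Ctx (Γ N : Type*) [Group Γ] [Group N] where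
  ι : N →* Γ
  φ : Γ →* MulAut N
  φι : ∀ n x, φ (ι n) x = n * x * n⁻¹
  max : ∀ x ∉ center N, IsCoatom ((MulAction.stabilizer (MulAut N) x).comap φ)

/-- centraliser of an element -/
abbrev C {N : Type*} [Group N] (x : N) : Subgroup N := centralizer {x}

variable {Γ N : Type*} [Group Γ] [Group N]

theorem mem_C {x k : N} : k ∈ C x ↔ k * x = x * k := mem_centralizer_singleton_iff

theorem self_mem_C (x : N) : x ∈ C x := mem_C.2 rfl

theorem mem_C_comm {x k : N} (h : k ∈ C x) : x ∈ C k := mem_C.2 (mem_C.1 h).symm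

theorem center_le_C (x : N) : center N ≤ C x := center_le_centralizer _

theorem C_ne_top {x : N} (hx : x ∉ center N) : C x ≠ ⊤ := fun h =>
  hx (mem_center_iff.2 fun g => mem_C.1 (h ▸ mem_top g))

theorem map_mem_C (e : MulAut N) {x k : N} (h : k ∈ C x) : e k ∈ C (e x) := by
  rw [mem_C, ← map_mul, ← map_mul, mem_C.1 h]

theorem conj_mem_C (n : N) {x k : N} (h : k ∈ C x) : n * k * n⁻¹ ∈ C (n * x * n⁻¹) :=
  map_mem_C (MulAut.conj n) h

theorem map_mem_center (e : MulAut N) {z : N} (h : z ∈ center N) : e z ∈ center N :=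
  mem_center_iff.2 fun g => by
    obtain ⟨g, rfl⟩ := e.surjective g
    rw [← map_mul, ← map_mul, mem_center_iff.1 h]

theorem map_notMem_center (e : MulAut N) {z : N} (h : z ∉ center N) : e z ∉ center N :=
  fun h' => h (by simpa using map_mem_center e⁻¹ h')

theorem conj_notMem_center (n : N) {z : N} (h : z ∉ center N) : n * z * n⁻¹ ∉ center N :=
  map_notMem_center (MulAut.conj n) h

theorem pres_inv [Finite N] (e : MulAut N) {H : Subgroup N} (h : ∀ k ∈ H, e k ∈ H) :
    ∀ k ∈ H, e⁻¹ k ∈ H := by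
  intro k hk
  obtain ⟨j, hj⟩ := (Finite.injective_iff_surjective
    (f := fun a : H => (⟨e a, h a a.2⟩ : H))).1
    (fun a b hab => Subtype.ext (e.injective (congrArg Subtype.val hab))) ⟨k, hk⟩
  have : e j = k := congrArg Subtype.val hj
  rw [← this]; simp

theorem exists_prime_pow_mem [Finite N] {H : Subgroup N} [H.Normal] {y : N} (hy : y ∉ H) :
    ∃ (p : ℕ) (z : N), p.Prime ∧ z ∈ zpowers y ∧ z ∉ H ∧ z ^ p ∈ H := by
  have h1 : orderOf (y : N ⧸ H) ≠ 1 := fun h =>
    hy ((QuotientGroup.eq_one_iff y).1 (orderOf_eq_one_iff.1 h))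
  obtain ⟨p, hp, m, hm⟩ := Nat.exists_prime_and_dvd h1
  have h0 : 0 < orderOf (y : N ⧸ H) := orderOf_pos _
  have hm0 : 0 < m := Nat.pos_of_ne_zero fun h => by rw [h] at hm; omega
  refine ⟨p, y ^ m, hp, pow_mem (mem_zpowers y) m, fun h => ?_, ?_⟩
  · have := orderOf_dvd_of_pow_eq_one (x := (y : N ⧸ H)) (n := m)
      ((QuotientGroup.eq_one_iff (y ^ m)).2 h)
    have h2 := Nat.le_of_dvd hm0 this
    have := hp.two_le
    nlinarith
  · rw [← QuotientGroup.eq_one_iff, ← pow_mul, mul_comm, ← hm]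
    exact pow_orderOf_eq_one (y : N ⧸ H)

/-- central commutators -/
theorem pow_eq_one_of_central {z k h : N} (hz : z ∈ center N) (e : k * h * k⁻¹ = z * h) {m : ℕ}
    (hm : k * h ^ m = h ^ m * k) : z ^ m = 1 := by
  have h1 : k * h ^ m * k⁻¹ = z ^ m * h ^ m := by
    rw [← conj_pow, e, Commute.mul_pow (mem_center_iff.1 hz h).symm]
  rw [hm, mul_inv_cancel_right] at h1
  exact (right_eq_mul.1 h1)

namespace Ctx

variable (c : Ctx Γ N)

/-- the stabiliser -/
def S (x : N) : Subgroup Γ := (MulAction.stabilizer (MulAut N) x).comap c.φ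

variable {c}

theorem mem_S {x : N} {g : Γ} : g ∈ c.S x ↔ c.φ g x = x := Iff.rfl

theorem ι_mem_S {x n : N} : c.ι n ∈ c.S x ↔ n ∈ C x := by
  rw [mem_S, c.φι, mem_C, mul_inv_eq_iff_eq_mul]

theorem C_eq {x y : N} (h : c.S x = c.S y) : C x = C y := by
  ext n; rw [← ι_mem_S (c := c), h, ι_mem_S]

theorem eq_of_le {x y : N} (hx : x ∉ center N) (hy : y ∉ center N) (h : c.S x ≤ c.S y) :
    c.S x = c.S y := (((c.max x hx).le_iff_eq (c.max y hy).1).1 h).symm

theorem S_le_of_mem {x y : N} (h : y ∈ zpowers x) : c.S x ≤ c.S y := by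
  obtain ⟨k, rfl⟩ := h
  intro g hg
  rw [mem_S, map_zpow, mem_S.1 hg]

theorem S_eq_of_mem {x y : N} (h : y ∈ zpowers x) (hy : y ∉ center N) : c.S x = c.S y :=
  eq_of_le (fun hx => hy (zpowers_le.2 hx h)) hy (S_le_of_mem h)

theorem mem_S_map {x : N} {g h : Γ} : g ∈ c.S (c.φ h x) ↔ h⁻¹ * g * h ∈ c.S x := by
  rw [mem_S, mem_S, map_mul, map_mul, map_inv, MulAut.mul_apply, MulAut.mul_apply]
  exact ⟨fun e => by rw [e]; simp, fun e => by simpa using congrArg (c.φ h) e⟩

theorem S_map_eq {x y : N} (e : c.S x = c.S y) (h : Γ) : c.S (c.φ h x) = c.S (c.φ h y) := by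
  ext g; rw [mem_S_map, mem_S_map, e]

theorem S_conj_eq {x y : N} (e : c.S x = c.S y) (n : N) :
    c.S (n * x * n⁻¹) = c.S (n * y * n⁻¹) := by
  rw [← c.φι, ← c.φι]; exact S_map_eq e _

theorem pres_C {x : N} {g : Γ} (hg : g ∈ c.S x) : ∀ k ∈ C x, c.φ g k ∈ C x := fun k hk => by
  have := map_mem_C (c.φ g) hk
  rwa [mem_S.1 hg] at this

variable [Finite N]

theorem dich' {x : N} (hx : x ∉ center N) {H : Subgroup N}
    (hH : ∀ g ∈ c.S x, ∀ k ∈ H, c.φ g k ∈ H) :
    H ≤ C x ∨ ∀ g : Γ, ∃ h ∈ H, c.φ g x = h * x * h⁻¹ := by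
  let T : Subgroup Γ :=
    { carrier := {g | (∃ h ∈ H, c.φ g x = h * x * h⁻¹) ∧ ∀ k ∈ H, c.φ g k ∈ H}
      one_mem' := ⟨⟨1, one_mem _, by simp⟩, by simp⟩
      mul_mem' := by
        rintro a b ⟨⟨h, hh, e⟩, ha⟩ ⟨⟨k, hk, e'⟩, hb⟩
        refine ⟨⟨c.φ a k * h, mul_mem (ha k hk) hh, ?_⟩, fun j hj => ?_⟩
        · rw [map_mul, MulAut.mul_apply, e', map_mul, map_mul, e, map_inv]; group
        · rw [map_mul]; exact ha _ (hb j hj)
      inv_mem' := by
        rintro a ⟨⟨h, hh, e⟩, ha⟩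
        have hb := pres_inv _ ha
        refine ⟨⟨((c.φ a)⁻¹ h)⁻¹, inv_mem (hb h hh), ?_⟩, fun j hj => ?_⟩
        · have : x = (c.φ a)⁻¹ (h * x * h⁻¹) := by rw [← e]; simp
          rw [map_mul, map_mul, map_inv] at this
          rw [map_inv]
          conv_rhs => rw [this]
          group
        · rw [map_inv]; exact hb j hj }
  have hle : c.S x ≤ T := fun g hg => ⟨⟨1, one_mem _, by simpa using mem_S.1 hg⟩, hH g hg⟩
  rcases (c.max x hx).le_iff.1 hle with h | h
  · exact .inr fun g => (h ▸ mem_top g : g ∈ T).1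
  · refine .inl fun k hk => ι_mem_S.1 (?_ : c.ι k ∈ c.S x)
    rw [S, ← h]
    exact ⟨⟨k, hk, c.φι k x⟩, fun j hj => by
      rw [c.φι]; exact mul_mem (mul_mem hk hj) (inv_mem hk)⟩

theorem dich {x : N} (hx : x ∉ center N) {H : Subgroup N} (hC : C x ≤ H)
    (hH : ∀ g ∈ c.S x, ∀ k ∈ H, c.φ g k ∈ H) : H = C x ∨ H = ⊤ := by
  refine (dich' hx hH).imp (fun h => le_antisymm h hC) fun h => eq_top_iff.2 fun n _ => ?_
  obtain ⟨k, hk, e⟩ := h (c.ι n)
  rw [c.φι] at e
  have : k⁻¹ * n ∈ C x := mem_C.2 (by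
    calc k⁻¹ * n * x = k⁻¹ * (n * x * n⁻¹) * n := by group
      _ = _ := by rw [e]; group)
  exact (H.mul_mem_cancel_left (inv_mem hk)).1 (hC this)

variable (c) in
theorem exists_conj {x : N} (hx : x ∉ center N) (g : Γ) : ∃ n, c.φ g x = n * x * n⁻¹ := by
  rcases dich' (c := c) hx (H := ⊤) (fun _ _ _ _ => mem_top _) with h | h
  · exact absurd (top_le_iff.1 h) (C_ne_top hx)
  · exact (h g).imp fun _ h => h.2

theorem norm_dich {x : N} (hx : x ∉ center N) :
    (∀ g, ∀ k ∈ C x, c.φ g k ∈ C x) ∨ ∀ g, (∀ k ∈ C x, c.φ g k ∈ C x) → g ∈ c.S x := by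
  let T : Subgroup Γ :=
    { carrier := {g | ∀ k ∈ C x, c.φ g k ∈ C x}
      one_mem' := by simp
      mul_mem' := fun {a b} ha hb j hj => by rw [map_mul]; exact ha _ (hb j hj)
      inv_mem' := fun {a} ha j hj => by rw [map_inv]; exact pres_inv _ ha j hj }
  have hle : c.S x ≤ T := fun g hg => pres_C hg
  rcases (c.max x hx).le_iff.1 hle with h | h
  · exact .inl fun g => (h ▸ mem_top g : g ∈ T)
  · exact .inr fun g hg => by rw [S, ← h]; exact hg

/-! ### Case A: all centralisers are invariant -/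

theorem caseA (hA : ∀ x ∉ center N, ∀ g, ∀ k ∈ C x, c.φ g k ∈ C x) :
    ∃ p : ℕ, p.Prime ∧ IsElementaryAbelian p (⊤ : Subgroup (N ⧸ center N)) := by
  have hN : ∀ x ∉ center N, (C x).Normal := fun x hx =>
    ⟨fun k hk n => c.φι n k ▸ hA x hx _ k hk⟩
  have h1 : ∀ x ∉ center N, ∀ a y : N, a * y * a⁻¹ * y⁻¹ ∈ C x := by
    intro x hx a y
    have := hN x hx
    by_cases hy : y ∈ C x
    · exact mul_mem (this.conj_mem _ hy a) (inv_mem hy)
    have hyZ : y ∉ center N := fun h => hy (center_le_C x h)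
    let H : Subgroup N :=
      { carrier := {n | ∀ g, n * c.φ g y * n⁻¹ * (c.φ g y)⁻¹ ∈ C x}
        one_mem' := fun g => by simp
        mul_mem' := fun {n m} hn hm g => by
          have := mul_mem (this.conj_mem _ (hm g) n) (hn g)
          convert this using 1; group
        inv_mem' := fun {n} hn g => by
          have := this.conj_mem _ (inv_mem (hn g)) n⁻¹
          convert this using 1; group }
    rcases dich (c := c) hx (H := H) (fun k hk g => by
      have := mul_mem hk (this.conj_mem _ (inv_mem hk) (c.φ g y))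
      convert this using 1; group) (fun s _ k hk g => by
        have := hA x hx s _ (hk (s⁻¹ * g))
        simpa using this) with h | h
    · refine absurd (h ▸ (fun g => ?_ : y ∈ H)) hy
      rw [← mem_C.1 (hA y hyZ g y (self_mem_C y))]; simp
    · simpa using (h ▸ mem_top a : a ∈ H) 1
  have h2 : ∀ a y : N, a * y * a⁻¹ * y⁻¹ ∈ center N := fun a y => mem_center_iff.2 fun x => by
    by_cases hx : x ∈ center N
    · exact (mem_center_iff.1 hx _).symm
    · exact (mem_C.1 (h1 x hx a y)).symm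
  have hcomm : ∀ a b : N ⧸ center N, a * b = b * a := by
    intro a b
    obtain ⟨a, rfl⟩ := QuotientGroup.mk_surjective a
    obtain ⟨b, rfl⟩ := QuotientGroup.mk_surjective b
    have := (QuotientGroup.eq_one_iff _).2 (h2 a b)
    simp only [QuotientGroup.mk_mul, QuotientGroup.mk_inv] at this
    rwa [mul_inv_eq_one, mul_inv_eq_iff_eq_mul] at this
  have h3 : ∀ a : N ⧸ center N, a ≠ 1 → (orderOf a).Prime := by
    intro a ha
    obtain ⟨x, rfl⟩ := QuotientGroup.mk_surjective a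
    have hx : x ∉ center N := fun h => ha ((QuotientGroup.eq_one_iff _).2 h)
    have := hN x hx
    obtain ⟨y, hy⟩ : ∃ y, y ∉ C x := by
      by_contra h
      push Not at h
      exact C_ne_top hx (eq_top_iff.2 fun y _ => h y)
    obtain ⟨p, z, hp, -, hz, hzp⟩ := exists_prime_pow_mem hy
    have hc : ∀ a b : N, Commute (a : N ⧸ C x) b := fun a b => by
      have := (QuotientGroup.eq_one_iff _).2 (h1 x hx a b)
      simp only [QuotientGroup.mk_mul, QuotientGroup.mk_inv] at this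
      rwa [mul_inv_eq_one, mul_inv_eq_iff_eq_mul] at this
    let H : Subgroup N :=
      { carrier := {n | n ^ p ∈ C x}
        one_mem' := by simp
        mul_mem' := fun {n m} hn hm => by
          rw [Set.mem_ofPred_eq, ← QuotientGroup.eq_one_iff, QuotientGroup.mk_pow] at hn hm ⊢
          rw [QuotientGroup.mk_mul, (hc n m).mul_pow, hn, hm, one_mul]
        inv_mem' := fun {n} hn => by
          rw [Set.mem_ofPred_eq, inv_pow]; exact inv_mem hn }
    rcases dich (c := c) hx (H := H) (fun k hk => pow_mem hk p) (fun s _ k hk => by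
        have := hA x hx s _ hk
        rwa [map_pow] at this) with h | h
    · exact absurd (h ▸ (hzp : z ∈ H)) hz
    have h4 : x ^ p ∈ center N := mem_center_iff.2 fun n => by
      have e1 : x * n * x⁻¹ = (x * n * x⁻¹ * n⁻¹) * n := by group
      have e2 := pow_eq_one_of_central (h2 x n) e1 (mem_C.1 (h ▸ mem_top n : n ∈ H)).symm
      have e3 : n * x * n⁻¹ = (x * n * x⁻¹ * n⁻¹)⁻¹ * x := by group
      rw [← mul_inv_eq_iff_eq_mul, ← conj_pow, e3,
        Commute.mul_pow (mem_center_iff.1 (inv_mem (h2 x n)) x).symm, inv_pow, e2]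
      simp
    have := Fact.mk hp
    rw [orderOf_eq_prime ((QuotientGroup.eq_one_iff _).2 h4 : (x : N ⧸ center N) ^ p = 1) ha]
    exact hp
  have hcm : IsMulCommutative (⊤ : Subgroup (N ⧸ center N)) :=
    ⟨⟨fun a b => Subtype.ext (hcomm a b)⟩⟩
  by_cases h : ∃ a : N ⧸ center N, a ≠ 1
  · obtain ⟨a, ha⟩ := h
    refine ⟨orderOf a, h3 a ha, hcm, fun b _ => ?_⟩
    by_cases hb : b = 1
    · rw [hb, one_pow]
    by_contra hne
    have hco : (orderOf a).Coprime (orderOf b) := (Nat.coprime_primes (h3 a ha) (h3 b hb)).2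
      fun e => hne (e ▸ pow_orderOf_eq_one b)
    have e := Commute.orderOf_mul_eq_mul_orderOf_of_coprime (hcomm a b) hco
    refine Nat.not_prime_mul (h3 a ha).ne_one (h3 b hb).ne_one (e ▸ h3 _ fun h1 => ?_)
    rw [h1, orderOf_one] at e
    exact (h3 a ha).ne_one (Nat.eq_one_of_mul_eq_one_right e.symm)
  · push Not at h
    exact ⟨2, Nat.prime_two, hcm, fun b _ => h _⟩

end Ctx

end CfsgLib.MaxCent
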