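import Mathlib
import Cfsg.Agent.Lib.MaxCent.Basic

/-! Groups with maximal centralisers: the case of a non-invariant centraliser. -/

set_option autoImplicit false

namespace CfsgLib.MaxCent

open Subgroup Cfsg

universe u

variable {Γ : Type*} {N : Type u} [Group Γ] [Group N]

/-- projection modulo the centre -/
abbrev π (N : Type u) [Group N] : N →* N ⧸ center N := QuotientGroup.mk' (center N)

theorem π_eq_one {x : N} : π N x = 1 ↔ x ∈ center N := QuotientGroup.eq_one_iff x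

theorem π_surj (a : N ⧸ center N) : ∃ x, π N x = a := QuotientGroup.mk_surjective a

theorem π_mem_map {H : Subgroup N} (hH : center N ≤ H) {x : N} : π N x ∈ H.map (π N) ↔ x ∈ H := by
  refine ⟨fun ⟨y, hy, e⟩ => ?_, mem_map_of_mem _⟩
  have : y⁻¹ * x ∈ center N := π_eq_one.1 (by rw [map_mul, map_inv, e, inv_mul_cancel])
  exact (H.mul_mem_cancel_left (inv_mem hy)).1 (hH this)

theorem π_mem_C {x y : N} : π N x ∈ (C y).map (π N) ↔ x ∈ C y := π_mem_map (center_le_C y)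

theorem pgrp [Finite N] {p : ℕ} (hp : p.Prime) {H : Subgroup N}
    (h : ∀ w ∈ H, ¬ p ∣ orderOf w → w ∈ center N) : IsPGroup p (H.map (π N)) := by
  rintro ⟨_, y, hy, rfl⟩
  obtain ⟨a, ha⟩ := Block.exists_isPPart hp y
  have h1 := Block.isPPart_mem hp ha hy
  obtain ⟨b, rfl, -, ⟨k, hk⟩, hb⟩ := ha
  refine ⟨k, Subtype.ext ?_⟩
  have := π_eq_one.2 (h b ((H.mul_mem_cancel_left h1).1 hy) hb)
  change π N (a * b) ^ p ^ k = 1
  rw [map_mul, this, mul_one, ← map_pow, ← hk, pow_orderOf_eq_one, map_one]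

namespace Ctx

variable {c : Ctx Γ N} [Finite N]

omit [Finite N] in
theorem L1 {a y : N} (ha : a ∉ center N) (hy : y ∈ C a) (h : (orderOf a).Coprime (orderOf y)) :
    c.S a ≤ c.S y := by
  have hc : Commute a y := (mem_C.1 hy).symm
  have h1 := Block.mem_zpowers_mul_of_coprime hc h
  have h2 := Block.mem_zpowers_mul_of_coprime hc.symm h.symm
  rw [hc.symm.eq] at h2
  rw [← S_eq_of_mem h1 ha]
  exact S_le_of_mem h2

theorem L2 {p k : ℕ} (hp : p.Prime) {y w : N} (hy : y ∉ center N) (ho : orderOf y = p ^ k)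
    (hw : w ∈ C y) (hw' : ¬ p ∣ orderOf w) (hwZ : w ∉ center N) : ∀ d ∈ C y, c.S y ≤ c.S d := by
  intro d hd
  have e := eq_of_le hy hwZ (L1 (c := c) hy hw (Block.coprime_of_pow_of_not_dvd hp ho hw'))
  obtain ⟨a, ha⟩ := Block.exists_isPPart hp d
  have h1 := Block.isPPart_mem hp ha hd
  obtain ⟨b, rfl, -, ⟨j, hj⟩, hb⟩ := ha
  have h2 := L1 (c := c) hy (((C y).mul_mem_cancel_left h1).1 hd)
    (Block.coprime_of_pow_of_not_dvd hp ho hb)
  have h3 := L1 (c := c) hwZ (C_eq e ▸ h1) (Block.coprime_of_pow_of_not_dvd hp hj hw').symm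
  intro g hg
  rw [mem_S, map_mul, mem_S.1 (h2 hg), mem_S.1 (h3 (e ▸ hg))]

variable (c) in
/-- the centraliser of `x` is not invariant -/
structure B (x : N) : Prop where
  nc : x ∉ center N
  st : ∀ g, (∀ k ∈ C x, c.φ g k ∈ C x) → g ∈ c.S x

variable {x : N}

omit [Finite N] in
theorem B.of_eq (h : c.B x) {y : N} (hy : y ∉ center N) (e : c.S y = c.S x) : c.B y :=
  ⟨hy, by rw [e, C_eq e]; exact h.st⟩

omit [Finite N] in
theorem B.map (h : c.B x) (s : Γ) : c.B (c.φ s x) := by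
  refine ⟨map_notMem_center _ h.nc, fun g hg => mem_S_map.2 (h.st _ fun k hk => ?_)⟩
  simpa using map_mem_C (c.φ s⁻¹) (hg _ (map_mem_C (c.φ s) hk))

omit [Finite N] in
theorem B.conj (h : c.B x) (n : N) : c.B (n * x * n⁻¹) := c.φι n x ▸ h.map (c.ι n)

omit [Finite N] in
theorem B.self_norm (h : c.B x) {n : N} (hn : ∀ k ∈ C x, n * k * n⁻¹ ∈ C x) : n ∈ C x :=
  ι_mem_S.1 (h.st _ fun k hk => c.φι n k ▸ hn k hk)

theorem B.fix (h : c.B x) {z : N} (hz : z ∈ center N) (g : Γ) : c.φ g z = z := by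
  have hxz : x * z ∉ center N := fun h' => h.nc ((mul_mem_cancel_right hz).1 h')
  have e : C (x * z) = C x := by
    ext k
    rw [mem_C, mem_C, ← mul_assoc, mul_assoc x, ← mem_center_iff.1 hz k, ← mul_assoc,
      mul_left_inj]
  have h1 := eq_of_le hxz h.nc fun s hs => h.st s (e ▸ pres_C hs)
  have h2 : ∀ s ∈ c.S x, c.φ s z = z := fun s hs => by
    have := mem_S.1 (h1 ▸ hs : s ∈ c.S (x * z))
    rwa [map_mul, mem_S.1 hs, mul_right_inj] at this
  obtain ⟨n, hn⟩ := c.exists_conj h.nc g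
  have h3 := h2 (c.ι n⁻¹ * g) (by rw [mem_S, map_mul, MulAut.mul_apply, hn, c.φι]; group)
  rw [map_mul, MulAut.mul_apply, c.φι, mem_center_iff.1 (map_mem_center _ hz), inv_inv,
    inv_mul_cancel_right] at h3
  exact h3

theorem B.S_mul (h : c.B x) {z : N} (hz : z ∈ center N) (y : N) : c.S (y * z) = c.S y := by
  ext g
  rw [mem_S, mem_S, map_mul, h.fix hz, mul_left_inj]

/-! ### the Frobenius case -/

theorem caseB1 (h : c.B x) (h1 : ∀ d ∈ C x, c.S x ≤ c.S d) :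
    ∃ (K : Subgroup (N ⧸ center N)) (p : ℕ), p.Prime ∧ IsFrobeniusComplement ((C x).map (π N)) ∧
      (Nat.card ((C x).map (π N))).Prime ∧ K.Normal ∧
      (K : Set (N ⧸ center N)) = frobeniusKernel ((C x).map (π N)) ∧ IsElementaryAbelian p K := by
  have hF : IsFrobeniusComplement ((C x).map (π N)) := by
    refine Frob.isFrobeniusComplement_iff.2 ⟨fun e => h.nc (π_eq_one.1 ?_), fun e => ?_, ?_⟩
    · exact mem_bot.1 (e ▸ π_mem_C.2 (self_mem_C x))
    · exact C_ne_top h.nc (eq_top_iff.2 fun n _ => π_mem_C.1 (e ▸ mem_top _))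
    · intro g d hd hd1 hg
      obtain ⟨g, rfl⟩ := π_surj g
      obtain ⟨d, rfl⟩ := π_surj d
      rw [← map_inv, ← map_mul, ← map_mul] at hg
      rw [π_mem_C] at hd hg ⊢
      have hdZ : d ∉ center N := fun e => hd1 (π_eq_one.2 e)
      have e1 := C_eq (eq_of_le h.nc hdZ (h1 d hd))
      have e2 := C_eq (eq_of_le h.nc (conj_notMem_center g hdZ) (h1 _ hg))
      exact h.self_norm fun k hk => e2 ▸ conj_mem_C g (e1 ▸ hk)
  obtain ⟨K, hK, hKn, hc, hK0, -⟩ := Frob.exists_kernel_fpf hF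
  have mK : ∀ {k : N}, π N k ∈ K ↔ k ∈ center N ∨ ∀ n : N, n * k * n⁻¹ ∉ C x := by
    intro k
    rw [← SetLike.mem_coe, hK, Frob.mem_kernel_iff, π_eq_one]
    refine or_congr_right ⟨fun H n e => H (π N n) ?_, fun H n e => ?_⟩
    · rw [← map_inv, ← map_mul, ← map_mul]; exact π_mem_C.2 e
    · obtain ⟨n, rfl⟩ := π_surj n
      rw [← map_inv, ← map_mul, ← map_mul] at e
      exact H n (π_mem_C.1 e)
  have hinv : ∀ g k, π N k ∈ K → π N (c.φ g k) ∈ K := by
    intro g k hk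
    rw [mK] at hk ⊢
    refine hk.imp (map_mem_center _) fun H n e => ?_
    obtain ⟨m, hm⟩ := c.exists_conj h.nc g⁻¹
    have := conj_mem_C m⁻¹ (hm ▸ map_mem_C (c.φ g⁻¹) e)
    refine H (m⁻¹ * c.φ g⁻¹ n) ?_
    simpa [mul_assoc] using this
  have hdis : ∀ {d}, d ∈ C x → π N d ∈ K → d ∈ center N := fun hd hk =>
    π_eq_one.1 (disjoint_def.1 hc.disjoint hk (π_mem_C.2 hd))
  have hab : ∀ {y}, π N y ∈ K → y ∉ center N → K.comap (π N) = C y := by
    intro y hy hyZ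
    refine (dich (c := c) hyZ (fun k hk => ?_) fun g _ k hk => hinv g k hk).resolve_right
      fun e => h.nc (hdis (self_mem_C x) (e ▸ mem_top x : x ∈ K.comap (π N)))
    rw [mem_comap, ← SetLike.mem_coe, hK]
    refine Frob.mem_kernel_of_commute hF (hK ▸ hy) (fun e => hyZ (π_eq_one.1 e)) ?_
    rw [← map_mul, ← map_mul, mem_C.1 hk]
  have hcm : ∀ {a b}, π N a ∈ K → π N b ∈ K → a * b = b * a := by
    intro a b ha hb
    by_cases hbZ : b ∈ center N
    · exact mem_center_iff.1 hbZ a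
    · exact mem_C.1 (hab hb hbZ ▸ (ha : a ∈ K.comap (π N)))
  obtain ⟨y, hy, hp⟩ := Coprime.exists_prime_orderOf_mem hK0
  obtain ⟨y, rfl⟩ := π_surj y
  have hyZ : y ∉ center N := fun e => by
    rw [π_eq_one.2 e, orderOf_one] at hp; exact Nat.not_prime_one hp
  refine ⟨K, _, hp, hF, ?_, hKn, hK, ⟨⟨fun a b => ?_⟩⟩, fun k hk => ?_⟩
  · obtain ⟨d, hd, hq⟩ := Coprime.exists_prime_orderOf_mem hF.1
    obtain ⟨d, hd, rfl⟩ := hd
    have hdZ : d ∉ center N := fun e => by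
      rw [π_eq_one.2 e, orderOf_one] at hq; exact Nat.not_prime_one hq
    have hmem : ∀ g, c.φ g d ∈ K.comap (π N) ⊔ zpowers d := by
      intro g
      obtain ⟨n, hn⟩ := c.exists_conj hdZ g
      obtain ⟨k, hk, _, ⟨e, he, rfl⟩, hke⟩ := mem_sup_of_normal_left.1
        (hc.sup_eq_top ▸ mem_top (π N n))
      have e1 : e ∈ C d := C_eq (eq_of_le h.nc hdZ (h1 d hd)) ▸ he
      have e2 : n * e⁻¹ ∈ K.comap (π N) := by
        rw [mem_comap, map_mul, map_inv, ← hke]; simpa using hk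
      have e3 : n * d * n⁻¹ = n * e⁻¹ * d * (n * e⁻¹)⁻¹ := by
        calc n * d * n⁻¹ = n * e⁻¹ * (e * d) * n⁻¹ := by group
          _ = _ := by rw [mem_C.1 e1]; group
      rw [hn, e3]
      exact mul_mem (mul_mem (mem_sup_left e2) (mem_sup_right (mem_zpowers d)))
        (inv_mem (mem_sup_left e2))
    rcases dich (c := c) hyZ (H := K.comap (π N) ⊔ zpowers d) (hab hy hyZ ▸ le_sup_left)
      (fun g _ k hk => by
        obtain ⟨a, ha, _, ⟨i, rfl⟩, rfl⟩ := mem_sup_of_normal_left.1 hk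
        rw [map_mul, map_zpow]
        exact mul_mem (mem_sup_left (hinv g a ha)) (zpow_mem (hmem g) i)) with e | e
    · exact absurd (hdis hd (hab hy hyZ ▸ e ▸ mem_sup_right (mem_zpowers d) :
        d ∈ K.comap (π N))) hdZ
    · have : (C x).map (π N) = zpowers (π N d) := by
        refine le_antisymm ?_ (zpowers_le.2 (mem_map_of_mem _ hd))
        rintro _ ⟨b, hb, rfl⟩
        obtain ⟨a, ha, _, ⟨i, rfl⟩, rfl⟩ := mem_sup_of_normal_left.1 (e ▸ mem_top b)
        have := π_eq_one.2 (hdis (((C x).mul_mem_cancel_right (zpow_mem hd i)).1 hb) ha)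
        exact ⟨i, by simp only [map_mul, this, one_mul, map_zpow]⟩
      rw [this, Nat.card_zpowers]; exact hq
  · obtain ⟨a, ha⟩ := a
    obtain ⟨b, hb⟩ := b
    obtain ⟨a, rfl⟩ := π_surj a
    obtain ⟨b, rfl⟩ := π_surj b
    exact Subtype.ext (by change π N a * π N b = π N b * π N a; rw [← map_mul, hcm ha hb, map_mul])
  · let W : Subgroup N :=
      { carrier := {k | π N k ∈ K ∧ k ^ orderOf (π N y) ∈ center N}
        one_mem' := by simp
        mul_mem' := fun {a b} ha hb => ⟨by rw [map_mul]; exact mul_mem ha.1 hb.1, by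
          rw [Commute.mul_pow (hcm ha.1 hb.1)]; exact mul_mem ha.2 hb.2⟩
        inv_mem' := fun {a} ha => ⟨by rw [map_inv]; exact inv_mem ha.1, by
          rw [inv_pow]; exact inv_mem ha.2⟩ }
    have hW : ∀ g, ∀ k ∈ W, c.φ g k ∈ W := fun g k hk =>
      ⟨hinv g k hk.1, by rw [← map_pow]; exact map_mem_center _ hk.2⟩
    have : W.Normal := ⟨fun k hk n => c.φι n k ▸ hW _ k hk⟩
    rcases dich (c := c) h.nc (H := W ⊔ C x) le_sup_right (fun g hg k hk => by
        obtain ⟨a, ha, b, hb, rfl⟩ := mem_sup_of_normal_left.1 hk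
        rw [map_mul]
        exact mul_mem (mem_sup_left (hW g a ha)) (mem_sup_right (pres_C hg b hb))) with e | e
    · refine absurd (hdis (e ▸ mem_sup_left (⟨hy, ?_⟩ : y ∈ W)) hy) hyZ
      rw [← π_eq_one, map_pow, pow_orderOf_eq_one]
    · obtain ⟨k, rfl⟩ := π_surj k
      obtain ⟨a, ha, b, hb, rfl⟩ := mem_sup_of_normal_left.1 (e ▸ mem_top k)
      rw [map_mul] at hk ⊢
      rw [π_eq_one.2 (hdis hb ((K.mul_mem_cancel_left ha.1).1 hk)), mul_one, ← map_pow]
      exact π_eq_one.2 ha.2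

/-! ### the remaining case is impossible -/

section B2

variable {p : ℕ} (h : c.B x) (hp : p.Prime) (h1 : ∀ w ∈ C x, ¬ p ∣ orderOf w → w ∈ center N)
include h hp h1

theorem pp {y : N} (hy : y ∈ C x) (hyZ : y ∉ center N) : IsPGroup p ((C y).map (π N)) := by
  refine pgrp hp fun w hw hw' => ?_
  by_contra hwZ
  obtain ⟨a, ha⟩ := Block.exists_isPPart hp y
  have h2 := Block.isPPart_mem hp ha hy
  obtain ⟨b, rfl, -, ⟨j, hj⟩, hb⟩ := ha
  have h3 := h1 b (((C x).mul_mem_cancel_left h2).1 hy) hb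
  have haZ : a ∉ center N := fun e => hyZ (mul_mem e h3)
  have e := C_eq (h.S_mul h3 a)
  have h4 := eq_of_le haZ h.nc (L2 (c := c) hp haZ hj (e ▸ hw) hw' hwZ x (mem_C_comm h2))
  exact hwZ (h1 w (C_eq h4 ▸ e ▸ hw) hw')

omit h hp h1 [Finite N] in
theorem norm_lift {H : Subgroup N} (hH : center N ≤ H) {n : N}
    (hn : π N n ∈ normalizer (H.map (π N) : Set (N ⧸ center N))) : ∀ k ∈ H, n * k * n⁻¹ ∈ H := by
  intro k hk
  rw [← π_mem_map hH, map_mul, map_mul, map_inv]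
  exact (mem_normalizer_iff.1 hn _).1 (mem_map_of_mem _ hk)

theorem exists_syl : ∃ P : Sylow p (N ⧸ center N), (P : Subgroup _) = (C x).map (π N) := by
  have := Fact.mk hp
  obtain ⟨P, hP⟩ := (pp h hp h1 (self_mem_C x) h.nc).exists_le_sylow
  refine ⟨P, by_contra fun hne => ?_⟩
  obtain ⟨b, -, hb, hb'⟩ := SylTools.exists_mem_normalizer_not_mem P.isPGroup' hP (Ne.symm hne)
  obtain ⟨n, rfl⟩ := π_surj b
  exact hb' (π_mem_C.2 (h.self_norm (norm_lift (center_le_C x) hb)))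

theorem types {y : N} (hy : y ∈ C x) (hyZ : y ∉ center N) :
    (∃ n, c.S y = c.S (n * x * n⁻¹)) ∨ C y = (C x).normalCore := by
  have := Fact.mk hp
  obtain ⟨P, hP⟩ := exists_syl h hp h1
  obtain ⟨g, hg⟩ := SylTools.exists_conj_le_sylow (pp h hp h1 hy hyZ) P
  obtain ⟨g, rfl⟩ := π_surj g
  have h2 : ∀ k ∈ C y, g * k * g⁻¹ ∈ C x := fun k hk => by
    rw [← π_mem_C, ← hP, map_mul, map_mul, map_inv]
    exact hg _ (mem_map_of_mem _ hk)
  have h3 : C y ≤ C (g⁻¹ * x * g⁻¹⁻¹) := fun k hk => by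
    simpa [mul_assoc] using conj_mem_C g⁻¹ (h2 k hk)
  have hB := h.conj g⁻¹
  by_cases e : C y = C (g⁻¹ * x * g⁻¹⁻¹)
  · exact .inl ⟨g⁻¹, eq_of_le hyZ hB.nc fun s hs => hB.st s (e ▸ pres_C hs)⟩
  right
  have h4 : IsPGroup p ((C (g⁻¹ * x * g⁻¹⁻¹)).map (π N)) :=
    pgrp hp fun w hw hw' => by
      have a1 : g * w * g⁻¹ ∈ C x := by simpa [mul_assoc] using conj_mem_C g hw
      have a2 := h1 _ a1 (by rwa [← MulAut.conj_apply, MulEquiv.orderOf_eq])
      exact by_contra fun a3 => conj_notMem_center g a3 a2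
  obtain ⟨b, -, hb, hb'⟩ := SylTools.exists_mem_normalizer_not_mem h4 (map_mono h3)
    fun e' => e (le_antisymm h3 fun k hk => π_mem_C.1 (e' ▸ π_mem_C.2 hk))
  obtain ⟨n, rfl⟩ := π_surj b
  have h5 : (C y).Normal := by
    rcases dich (c := c) hyZ (H := normalizer (C y : Set N)) le_normalizer (fun s hs k hk => by
      refine SylTools.mem_normalizer_of_conj_le fun a ha => ?_
      have := pres_C hs _ ((mem_normalizer_iff.1 hk _).1 (pres_C (inv_mem hs) a ha))
      simpa using this) with e' | e'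
    · exact absurd (π_mem_C.2 (e' ▸ SylTools.mem_normalizer_of_conj_le
        (norm_lift (center_le_C y) hb))) hb'
    · exact normalizer_eq_top_iff.1 e'
  have h6 : C y ≤ (C x).normalCore := normal_le_normalCore.2 fun k hk => by
    simpa [mul_assoc] using h2 _ (h5.conj_mem k hk g⁻¹)
  refine ((dich (c := c) hyZ h6 fun s _ k hk m => ?_).resolve_right
    fun e' => C_ne_top h.nc (top_le_iff.1 (e' ▸ normalCore_le _))).symm
  obtain ⟨j, hj⟩ := c.exists_conj h.nc s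
  have := conj_mem_C j⁻¹ (hj ▸ map_mem_C (c.φ s) (hk (c.φ s⁻¹ (j * m))))
  simpa [mul_assoc] using this

theorem noX {w : N} (hw : w ∈ (C x).normalCore) (e : c.S w = c.S x) : False := by
  have key : C x ≤ (C x).normalCore := by
    intro d hd
    by_cases hdZ : d ∈ center N
    · exact normal_le_normalCore.2 (center_le_C x) hdZ
    rcases types h hp h1 hd hdZ with ⟨n, hn⟩ | hn
    · intro m
      have a1 := C_eq (hn.trans (S_conj_eq e n).symm)
      have a2 : m * (n * w * n⁻¹) * m⁻¹ ∈ C x := by simpa [mul_assoc] using hw (m * n)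
      have a3 : m⁻¹ * x * m⁻¹⁻¹ ∈ C d := by
        rw [a1]; simpa [mul_assoc] using conj_mem_C m⁻¹ (mem_C_comm a2)
      simpa [mul_assoc] using conj_mem_C m (mem_C_comm a3)
    · exact hn ▸ self_mem_C d
  refine C_ne_top h.nc (eq_top_iff.2 fun n _ => h.self_norm fun k hk => key hk n)

theorem typeS {y : N} (hy : y ∈ C x) (hyZ : y ∉ center N) :
    ∃ n, c.S (n * y * n⁻¹) = c.S x := by
  rcases types h hp h1 hy hyZ with ⟨n, e⟩ | e
  · exact ⟨n⁻¹, by simpa [mul_assoc] using S_conj_eq e n⁻¹⟩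
  · exact (noX h hp h1 (e ▸ mem_C_comm hy) rfl).elim

theorem core_le : (C x).normalCore ≤ center N := by
  intro y hy
  by_contra hyZ
  obtain ⟨n, e⟩ := typeS h hp h1 (normalCore_le _ hy) hyZ
  exact noX h hp h1 (Normal.conj_mem inferInstance _ hy n) e

theorem exists_b (hn : ¬ ∀ d ∈ C x, c.S x ≤ c.S d) :
    ∃ b ∈ C x, b ∉ center N ∧ b ^ p ∈ center N ∧ ¬ c.S x ≤ c.S b := by
  have := Fact.mk hp
  push Not at hn
  obtain ⟨d, hd, hd'⟩ := hn
  have hdZ : d ∉ center N := fun e => hd' fun g _ => h.fix e g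
  obtain ⟨q, b, hq, hb, hbZ, hbq⟩ := exists_prime_pow_mem hdZ
  have hbx : b ∈ C x := zpowers_le.2 hd hb
  refine ⟨b, hbx, hbZ, ?_, S_eq_of_mem (c := c) hb hbZ ▸ hd'⟩
  have := Fact.mk hq
  have a1 := orderOf_eq_prime (x := π N b) (by rw [← map_pow]; exact π_eq_one.2 hbq)
    fun e => hbZ (π_eq_one.1 e)
  obtain ⟨k, hk⟩ := SylTools.exists_orderOf_eq_pow_of_mem (pp h hp h1 (self_mem_C x) h.nc)
    (π_mem_C.2 hbx)
  rwa [← (Nat.prime_dvd_prime_iff_eq hq hp).1 (hq.dvd_of_dvd_pow (a1.symm.trans hk).dvd)]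

theorem expo (hn : ¬ ∀ d ∈ C x, c.S x ≤ c.S d) {y : N} (hy : y ∈ C x) : y ^ p ∈ center N := by
  by_contra hyp
  have hyZ : y ∉ center N := fun e => hyp (pow_mem e p)
  obtain ⟨n, e⟩ := typeS h hp h1 hy hyZ
  obtain ⟨b, hb, hbZ, hbp, hb'⟩ := exists_b h hp h1 hn
  have a1 : (n * y * n⁻¹) ^ p ∉ center N := by
    rw [conj_pow]; exact conj_notMem_center n hyp
  generalize n * y * n⁻¹ = a at *
  have a2 : Commute a b := (mem_C.1 (C_eq e ▸ hb)).symm
  have a3 : (a * b) ^ p ∉ center N := fun e' => a1 ((mul_mem_cancel_right hbp).1 (a2.mul_pow p ▸ e'))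
  have a4 : c.S (a * b) = c.S x := by
    rw [S_eq_of_mem (pow_mem (mem_zpowers _) p) a3, a2.mul_pow, h.S_mul hbp,
      ← S_eq_of_mem (pow_mem (mem_zpowers _) p) a1, e]
  refine hb' fun g hg => ?_
  have := mem_S.1 (a4 ▸ hg : g ∈ c.S (a * b))
  rwa [map_mul, mem_S.1 (e ▸ hg : g ∈ c.S a), mul_right_inj] at this

theorem npc (hn : ¬ ∀ d ∈ C x, c.S x ≤ c.S d) : HasNormalPComplement p (N ⧸ center N) := by
  have := Fact.mk hp
  obtain ⟨P, hP⟩ := exists_syl h hp h1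
  by_cases h2 : p = 2
  · refine ⟨P, _, inferInstance, MonoidHom.ker_transferSylow_isComplement' P fun n hn' => ?_⟩
    obtain ⟨n, rfl⟩ := π_surj n
    change _ ∈ normalizer ((P : Subgroup (N ⧸ center N)) : Set (N ⧸ center N)) at hn'
    change _ ∈ centralizer ((P : Subgroup (N ⧸ center N)) : Set (N ⧸ center N))
    rw [hP] at hn' ⊢
    have a1 := π_mem_C.2 (h.self_norm (norm_lift (center_le_C x) hn'))
    have a2 : ∀ a ∈ (C x).map (π N), a⁻¹ = a := by
      rintro _ ⟨a, ha, rfl⟩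
      rw [inv_eq_iff_mul_eq_one, ← sq, ← map_pow, ← h2]
      exact π_eq_one.2 (expo h hp h1 hn ha)
    intro a ha
    rw [← a2 _ (mul_mem ha a1), mul_inv_rev, a2 a ha, a2 _ a1]
  refine Frob.weakThompson _ p h2 P (fun e => h.nc (π_eq_one.1 ?_)) fun D hD hD0 hinv => ?_
  · exact mem_bot.1 (e ▸ hP ▸ π_mem_C.2 (self_mem_C x))
  have key : ∀ g ∈ c.S x, ∀ d, π N d ∈ D → π N (c.φ g d) ∈ D := by
    intro g hg d hd
    let ψ : MulAut (N ⧸ center N) := QuotientGroup.congr _ _ (c.φ g)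
      (characteristic_iff_map_eq.1 inferInstance _)
    have a1 : ∀ a, ψ (π N a) = π N (c.φ g a) := fun a => rfl
    rw [← a1, ← hinv ψ (eq_of_le_of_card_ge ?_ (card_map_of_injective ψ.injective).ge)]
    · exact mem_map_of_mem _ hd
    · rw [hP]
      rintro _ ⟨_, ⟨a, ha, rfl⟩, rfl⟩
      exact π_mem_C.2 (pres_C hg a ha)
  rcases dich (c := c) h.nc (H := (normalizer (D : Set (N ⧸ center N))).comap (π N))
    (fun k hk => SylTools.mem_normalizer_of_conj_le fun d hd => by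
      obtain ⟨d, rfl⟩ := π_surj d
      have := key _ (ι_mem_S.2 hk) d hd
      rwa [c.φι, map_mul, map_mul, map_inv] at this)
    (fun g hg k hk => SylTools.mem_normalizer_of_conj_le fun d hd => by
      obtain ⟨d, rfl⟩ := π_surj d
      have a1 := (mem_normalizer_iff.1 hk _).1 (key _ (inv_mem hg) d hd)
      rw [← map_inv, ← map_mul, ← map_mul] at a1
      simpa using key g hg _ a1) with e | e
  · refine Transfer.hasNormalPComplement_of_isPGroup (P.isPGroup'.to_le fun a ha => ?_)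
    obtain ⟨a, rfl⟩ := π_surj a
    exact hP ▸ π_mem_C.2 (e ▸ ha)
  · refine absurd (eq_bot_iff.2 fun d hd => ?_) hD0
    obtain ⟨d, rfl⟩ := π_surj d
    refine π_eq_one.2 (core_le h hp h1 fun m => π_mem_C.1 (hP ▸ hD ?_))
    rw [map_mul, map_mul, map_inv]
    exact (mem_normalizer_iff.1 (e ▸ mem_top m : m ∈ (normalizer _).comap (π N)) _).1 hd

theorem caseB2 (hn : ¬ ∀ d ∈ C x, c.S x ≤ c.S d) : False := by
  have := Fact.mk hp
  obtain ⟨P, K, hK, hc⟩ := npc h hp h1 hn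
  have hKp : ¬ p ∣ Nat.card K := hc.index_eq_card ▸ P.not_dvd_index
  have hK0 : K ≠ ⊥ := by
    rintro rfl
    obtain ⟨Q, hQ⟩ := exists_syl h hp h1
    have a1 : IsPGroup p (⊤ : Subgroup (N ⧸ center N)) := by
      rw [← hc.sup_eq_top, bot_sup_eq]; exact P.isPGroup'
    have a2 := SylTools.eq_sylow_of_le a1 Q le_top
    exact C_ne_top h.nc (eq_top_iff.2 fun n _ => π_mem_C.1 (hQ ▸ a2 ▸ mem_top _))
  have hPQ := Frob.pqCond_of_fpf (H := (C x).map (π N)) hK0 le_normalizer_of_normal (by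
    rintro _ ⟨d, hd, rfl⟩ hd1
    have hdZ : d ∉ center N := fun e => hd1 (π_eq_one.2 e)
    refine Frob.fpf_iff.2 fun k hk e => ?_
    obtain ⟨k, rfl⟩ := π_surj k
    have hz : k * d * k⁻¹ * d⁻¹ ∈ center N := π_eq_one.1 (by
      simp only [map_mul, map_inv, e]; group)
    have a1 := pow_eq_one_of_central hz (k := k) (h := d) (by group)
      (mem_center_iff.1 (expo h hp h1 hn hd) k)
    have a2 := pow_eq_one_of_central (inv_mem hz) (k := d) (h := k) (by group)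
      (m := Nat.card K) (mem_center_iff.1 (π_eq_one.1 (by
        rw [map_pow]; exact congrArg Subtype.val (pow_card_eq_one' (x := (⟨_, hk⟩ : K))))) d)
    rw [inv_pow, inv_eq_one] at a2
    have a3 := pow_gcd_eq_one.2 ⟨a1, a2⟩
    rw [(hp.coprime_iff_not_dvd.2 hKp).gcd_eq_one, pow_one, mul_inv_eq_one,
      mul_inv_eq_iff_eq_mul] at a3
    obtain ⟨j, hj⟩ := SylTools.exists_orderOf_eq_pow_of_mem (pp h hp h1 hd hdZ)
      (π_mem_C.2 (mem_C.2 a3))
    rcases j with _ | j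
    · exact orderOf_eq_one_iff.1 hj
    · exact absurd ((hj ▸ dvd_pow_self p j.succ_ne_zero).trans (K.orderOf_dvd_natCard hk)) hKp)
  obtain ⟨b, hb, hbZ, hbp, hb'⟩ := exists_b h hp h1 hn
  have o1 := orderOf_eq_prime (x := π N b) (by rw [← map_pow]; exact π_eq_one.2 hbp)
    fun e => hbZ (π_eq_one.1 e)
  have o2 := orderOf_eq_prime (x := π N x) (by
    rw [← map_pow]; exact π_eq_one.2 (expo h hp h1 hn (self_mem_C x))) fun e => h.nc (π_eq_one.1 e)
  obtain ⟨i, hi⟩ := (Frob.pqCond_subgroup_iff.1 hPQ _ (π_mem_C.2 (self_mem_C x)) _ (π_mem_C.2 hb)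
    (o2 ▸ hp) (o1 ▸ hp) (by
      rw [← map_mul, mem_C.1 hb, map_mul, mul_inv_cancel_right]; exact mem_zpowers _)).2
      (o2.trans o1.symm)
  have a1 : (x ^ i)⁻¹ * b ∈ center N := π_eq_one.1 (by
    rw [map_mul, map_inv, map_zpow, ← hi]; simp)
  refine hb' ?_
  rw [← mul_inv_cancel_left (x ^ i) b, h.S_mul a1]
  exact S_le_of_mem (zpow_mem (mem_zpowers x) i)

end B2

theorem main (c : Ctx Γ N) :
    (∃ p : ℕ, p.Prime ∧ IsElementaryAbelian p (⊤ : Subgroup (N ⧸ center N))) ∨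
    ∃ x ∉ center N, ∃ (K : Subgroup (N ⧸ center N)) (p : ℕ), p.Prime ∧
      IsFrobeniusComplement ((C x).map (π N)) ∧ (Nat.card ((C x).map (π N))).Prime ∧ K.Normal ∧
      (K : Set (N ⧸ center N)) = frobeniusKernel ((C x).map (π N)) ∧ IsElementaryAbelian p K := by
  by_cases hA : ∀ x ∉ center N, ∀ g, ∀ k ∈ C x, c.φ g k ∈ C x
  · exact .inl (caseA hA)
  right
  obtain ⟨y, hy, hA⟩ : ∃ y ∉ center N, ¬ ∀ g, ∀ k ∈ C y, c.φ g k ∈ C y := by
    simpa only [not_forall, exists_prop] using hA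
  have hB : c.B y := ⟨hy, (norm_dich hy).resolve_left hA⟩
  obtain ⟨p, z, hp, hz, hzZ, hzp⟩ := exists_prime_pow_mem hy
  obtain ⟨x, hx⟩ := Block.exists_isPPart hp z
  have hxZ : x ∉ center N := fun e => by
    obtain ⟨b, rfl, hc, -, hb⟩ := hx
    rw [hc.mul_pow, mul_mem_cancel_left (pow_mem e p)] at hzp
    refine hzZ (mul_mem e (zpowers_le.2 hzp ?_))
    rw [mem_zpowers_pow_iff]
    exact (hp.coprime_iff_not_dvd.2 hb).gcd_eq_one
  have h : c.B x := hB.of_eq hxZ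
    (S_eq_of_mem (zpowers_le.2 hz (Block.isPPart_mem_zpowers hp hx)) hxZ).symm
  obtain ⟨k, hk⟩ := Block.isPPart_pElt hx
  refine ⟨x, hxZ, caseB1 h (by_contra fun hn => caseB2 h hp (fun w hw hw' => ?_) hn)⟩
  exact by_contra fun hwZ => hn (L2 hp hxZ hk hw hw' hwZ)

end Ctx

end CfsgLib.MaxCent
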